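import Groth.Agent.AmpleLib.Product
import Groth.Agent.CMRegLib.Seq
import Groth.Agent.H1ZeroLib.Relative
import Groth.Agent.DCohLib.SuppOpen
import Mathlib.RingTheory.Ideal.AssociatedPrime.Finiteness
import Mathlib.RingTheory.Regular.IsSMulRegular
import Mathlib.LinearAlgebra.Matrix.Charpoly.LinearMap

/-!
Coherent modules without higher cohomology, and with finitely generated global sections, on an open
of an affine Noetherian scheme are annihilated near every point outside that open.
-/

set_option autoImplicit false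
set_option backward.isDefEq.respectTransparency false
set_option linter.style.haveILetI false

universe u

open CategoryTheory CategoryTheory.Limits AlgebraicGeometry TopologicalSpace Opposite
open Groth.Agent.AmpleLib Groth.Agent.DCohLib Groth.Agent.PullbackMod

noncomputable section

namespace Groth.Agent.AcyFinLib

variable {V : Scheme.{u}}

theorem app_smulModΓ (M : V.Modules) (r : Coh.Γtop V) (s : Γ(M, ⊤)) :
    (Formal.smulModΓ M r).app ⊤ s = (show Γ(V, ⊤) from r) • s := by
  show (V.presheaf.map (homOfLE (le_top : (⊤ : V.Opens) ≤ ⊤)).op (show Γ(V, ⊤) from r)) • s = _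
  rw [Subsingleton.elim (homOfLE (le_top : (⊤ : V.Opens) ≤ ⊤)).op (𝟙 _), V.presheaf.map_id]
  rfl

/-- A stalk vanishes as soon as all global germs do. -/
theorem subsingleton_stalk_of_germ [V.IsQuasiAffine] [CompactSpace V] (M : V.Modules) [Coh.IsQCoh M] (x : V)
    (h : ∀ s : Γ(M, ⊤), M.presheaf.germ ⊤ x trivial s = 0) : Subsingleton (M.presheaf.stalk x) := by
  refine subsingleton_of_forall_eq 0 fun z => ?_
  obtain ⟨U, hxU, m, rfl⟩ := TopCat.Presheaf.exists_germ_eq M.presheaf z
  obtain ⟨_, ⟨r, -, rfl⟩, hxr, hle⟩ :=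
    Opens.isBasis_iff_nbhd.1 (Scheme.IsQuasiAffine.isBasis_basicOpen V) hxU
  obtain ⟨n, σ, hσ⟩ := exists_extend_qcoh M r (M.presheaf.map (homOfLE hle).op m)
  have hu : IsUnit (V.presheaf.germ (V.basicOpen r) x hxr
      (V.presheaf.map (homOfLE (V.basicOpen_le r)).op (r ^ n))) := by
    refine IsUnit.map _ ?_
    rw [map_pow]
    exact (RingedSpace.isUnit_res_basicOpen _ r).pow n
  have e := congrArg (M.presheaf.germ (V.basicOpen r) x hxr) hσ
  rw [TopCat.Presheaf.germ_res_apply, h σ, ParaFLib.germ_smul'] at e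
  exact hu.smul_eq_zero.1 ((congrArg _ (TopCat.Presheaf.germ_res_apply ..).symm).trans e.symm)

variable {B : Type u} [CommRing B] (j : V ⟶ Spec (CommRingCat.of B))

/-- Global sections over the ring of the target. -/
abbrev secModule (M : V.Modules) : Module B Γ(M, ⊤) :=
  Module.compHom Γ(M, ⊤) (show B →+* Γ(V, ⊤) from Coh.toGlobal j)

theorem isUnit_germ_iff (v : V) (b : B) :
    IsUnit (H1ZeroLib.germA j v b) ↔ b ∉ (j v : PrimeSpectrum B).asIdeal := by
  rw [← H1ZeroLib.comap_germA j v, Ideal.mem_comap, IsLocalRing.mem_maximalIdeal, mem_nonunits_iff, not_not]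

theorem germ_eq_zero_of_smul_eq_zero (M : V.Modules) (v : V) (b : B) (hb : b ∉ (j v : PrimeSpectrum B).asIdeal)
    (s : Γ(M, ⊤)) (h : (show Γ(V, ⊤) from Coh.toGlobal j b) • s = 0) : M.presheaf.germ ⊤ v trivial s = 0 := by
  have e := congrArg (M.presheaf.germ ⊤ v trivial) h
  rw [ParaFLib.germ_smul', map_zero] at e
  exact ((isUnit_germ_iff j v b).2 hb).smul_eq_zero.1 e

variable [IsOpenImmersion j]

/-- Near a point outside the open, everything is killed. -/
theorem exists_killer [IsNoetherian V] [V.IsQuasiAffine] [IsNoetherianRing B] (p : PrimeSpectrum B)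
    (hp : (p : ↥(Spec (CommRingCat.of B))) ∉ Set.range j.base) :
    ∀ (I : Ideal B) (M : V.Modules), Coh.IsCoh M → (letI := secModule j M; Module.Finite B Γ(M, ⊤)) →
      (∀ q, 0 < q → Subsingleton (Coh.HH V M q)) → (letI := secModule j M; Module.annihilator B Γ(M, ⊤) = I) →
      ¬ I ≤ p.asIdeal := by
  intro I
  induction I using WellFoundedGT.induction with
  | ind I IH =>
    intro M hM hfin hH hI hIp
    haveI := hM.1
    letI := secModule j M
    haveI : Module.Finite B Γ(M, ⊤) := hfin
    obtain ⟨x, hxp, hx⟩ : ∃ x ∈ p.asIdeal, x ∉ ⋃ q ∈ associatedPrimes B Γ(M, ⊤), (q : Set B) := by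
      by_contra hc
      push Not at hc
      obtain ⟨q, hq, hpq⟩ := (Ideal.subset_union_prime_finite (associatedPrimes.finite B Γ(M, ⊤)) (f := id) ⊥ ⊥
        (fun q hq _ _ => (hq : IsAssociatedPrime q Γ(M, ⊤)).1)).1 (fun x hx => by
          simpa using hc x hx)
      obtain ⟨hqp, s, hs⟩ := isAssociatedPrime_iff.1 (hq : IsAssociatedPrime q Γ(M, ⊤))
      have hqV : (⟨q, hqp⟩ : PrimeSpectrum B) ∉ Set.range j.base := fun h =>
        hp (((PrimeSpectrum.le_iff_specializes p ⟨q, hqp⟩).1 hpq).mem_open (j.isOpenEmbedding.isOpen_range) h)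
      have hs0 : s = 0 := by
        refine TopCat.Presheaf.section_ext (Coh.toAb M) ⊤ s 0 fun v _ => ?_
        refine Eq.trans ?_ (map_zero _).symm
        obtain ⟨a, haq, hav⟩ : ∃ a ∈ q, a ∉ (j v : PrimeSpectrum B).asIdeal := by
          refine Set.not_subset.1 fun hle => hqV ?_
          exact ((PrimeSpectrum.le_iff_specializes ⟨q, hqp⟩ (j v)).1 hle).mem_open
            (j.isOpenEmbedding.isOpen_range) ⟨v, rfl⟩
        refine germ_eq_zero_of_smul_eq_zero j M v a hav s ?_
        have : a ∈ (⊥ : Submodule B Γ(M, ⊤)).colon {s} := hs ▸ haq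
        exact (Submodule.mem_bot B).1 (Submodule.mem_colon_singleton.1 this)
      subst hs0
      exact hqp.ne_top (hs.trans (by ext; simp [Submodule.mem_colon_singleton]))
    have hreg : IsSMulRegular Γ(M, ⊤) x := by
      rw [biUnion_associatedPrimes_eq_compl_regular] at hx
      simpa using hx
    let g := Formal.smulModΓ M (Coh.toGlobal j x)
    have hgx : ∀ s : Γ(M, ⊤), g.app ⊤ s = x • s := fun s => app_smulModΓ M _ s
    haveI : Mono g := by
      haveI := H1ZeroLib.isQCoh_kernel g
      refine Preadditive.mono_of_kernel_iso_zero (IsZero.isoZero ?_)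
      refine DCohLib.isZero_of_stalks fun v => subsingleton_stalk_of_germ _ v fun t => ?_
      haveI := (QCohLib.toAbF V).map_mono (kernel.ι g)
      have h1 : (kernel.ι g).app ⊤ t = 0 := by
        refine hreg ((hgx _).symm.trans ?_ |>.trans (smul_zero x).symm)
        exact congr(($(kernel.condition g)).app ⊤ t)
      have h2 : t = 0 := CohBase.sections_injective ((QCohLib.toAbF V).map (kernel.ι g)) ⊤
        (h1.trans (map_zero _).symm)
      rw [h2]
      exact map_zero _
    let S : ShortComplex V.Modules := ShortComplex.mk g (cokernel.π g) (cokernel.condition g)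
    have hS : S.ShortExact :=
      { exact := ShortComplex.exact_cokernel g, mono_f := inferInstanceAs (Mono g), epi_g := inferInstanceAs (Epi (cokernel.π g)) }
    let C := cokernel g
    have hC : Coh.IsCoh C := (QCohLib.isCoh_kernel_cokernel g hM hM).2
    have hsurj : Function.Surjective ((cokernel.π g).app ⊤) := by
      haveI : Subsingleton (CohBase.HU (⊤ : V.Opens) (S.map (QCohLib.toAbF V)).X₁ 1) :=
        SerreAff.subsingleton_HU_top (hH 1 Nat.one_pos)
      exact CohBase.sections_surjective (QCohLib.toAb_shortExact hS) ⊤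
    letI := secModule j C
    let π : Γ(M, ⊤) →ₗ[B] Γ(C, ⊤) :=
      { toFun := (cokernel.π g).app ⊤
        map_add' := map_add _
        map_smul' := fun b s => Scheme.Modules.Hom.app_smul (cokernel.π g) _ s }
    have hker : ∀ s, π s = 0 → ∃ t, x • t = s := fun s hs => by
      obtain ⟨t, ht⟩ := CohBase.sections_exact (QCohLib.toAb_shortExact hS) ⊤ s hs
      exact ⟨t, (hgx t).symm.trans ht⟩
    haveI : Module.Finite B Γ(C, ⊤) := Module.Finite.of_surjective π hsurj
    have hle : I ≤ Module.annihilator B Γ(C, ⊤) := fun a ha => Module.mem_annihilator.2 fun c => by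
      obtain ⟨s, rfl⟩ := hsurj c
      rw [← hI] at ha
      exact ((map_smul π a s).symm.trans (congrArg π (Module.mem_annihilator.1 ha s))).trans (map_zero π)
    have hxC : x ∈ Module.annihilator B Γ(C, ⊤) := Module.mem_annihilator.2 fun c => by
      obtain ⟨s, rfl⟩ := hsurj c
      refine (map_smul π x s).symm.trans ?_
      rw [← hgx]
      exact congr(($(cokernel.condition g)).app ⊤ s)
    have hlt : I < Module.annihilator B Γ(C, ⊤) := by
      refine lt_of_le_of_ne hle fun e => ?_
      rw [← e, ← hI] at hxC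
      refine hIp.not_gt ?_
      have : I = ⊤ := by
        rw [← hI, Ideal.eq_top_iff_one]
        exact Module.mem_annihilator.2 fun s => by
          rw [one_smul]; exact hreg ((Module.mem_annihilator.1 hxC s).trans (smul_zero x).symm)
      exact this ▸ lt_top_iff_ne_top.2 p.isPrime.ne_top
    have hHC : ∀ q, 0 < q → Subsingleton (Coh.HH V C q) := fun q hq =>
      CMRegLib.subsingleton_right hS q (hH q hq) (hH (q + 1) (Nat.succ_pos q))
    obtain ⟨b, hb, hbp⟩ := Set.not_subset.1 (IH _ hlt C hC inferInstance hHC rfl)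
    let φ : Module.End B Γ(M, ⊤) := b • LinearMap.id
    have hφ : LinearMap.range φ ≤ Ideal.span {x} • (⊤ : Submodule B Γ(M, ⊤)) := by
      rintro _ ⟨s, rfl⟩
      obtain ⟨t, ht⟩ := hker (b • s) ((map_smul π b s).trans (Module.mem_annihilator.1 hb (π s)))
      show b • s ∈ _
      rw [← ht]
      exact Submodule.smul_mem_smul (Ideal.mem_span_singleton_self x) Submodule.mem_top
    obtain ⟨P, hPm, -, hPc, hP0⟩ :=
      LinearMap.exists_monic_and_natDegree_eq_and_coeff_mem_pow_and_aeval_eq_zero B φ (Ideal.span {x}) hφ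
    have hker' : P.eval b ∈ Module.annihilator B Γ(M, ⊤) := Module.mem_annihilator.2 fun s => by
      have e := LinearMap.congr_fun hP0 s
      have : φ = algebraMap B (Module.End B Γ(M, ⊤)) b := by ext; rfl
      rw [this, Polynomial.aeval_algebraMap_apply_eq_algebraMap_eval] at e
      exact e
    rw [hI] at hker'
    have hpm := hIp hker'
    rw [Polynomial.eval_eq_sum_range, Finset.sum_range_succ, hPm.coeff_natDegree, one_mul] at hpm
    refine hbp (p.isPrime.mem_of_pow_mem P.natDegree ((p.asIdeal.add_mem_iff_right ?_).1 hpm))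
    refine Ideal.sum_mem _ fun k hk => Ideal.mul_mem_right _ _ ?_
    have hk' : P.natDegree - k ≠ 0 := by have := Finset.mem_range.1 hk; omega
    exact (Ideal.span_singleton_le_iff_mem _).2 hxp (Ideal.pow_le_self hk' (hPc k))

/-- With full support, the open is closed. -/
theorem isClosed_range [IsNoetherian V] [V.IsQuasiAffine] [IsNoetherianRing B] (M : V.Modules) (hM : Coh.IsCoh M)
    (hsupp : CohB1.support M = Set.univ) (hfin : letI := secModule j M; Module.Finite B Γ(M, ⊤))
    (hH : ∀ q, 0 < q → Subsingleton (Coh.HH V M q)) : IsClosed (Set.range j.base) := by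
  refine isClosed_of_closure_subset fun p hp => ?_
  by_contra hpV
  haveI := hM.1
  letI := secModule j M
  obtain ⟨b, hb, hbp⟩ := Set.not_subset.1 (exists_killer j p hpV _ M hM hfin hH rfl)
  obtain ⟨_, hbv, v, rfl⟩ :=
    mem_closure_iff.1 hp (PrimeSpectrum.basicOpen b : Set (PrimeSpectrum B))
      (PrimeSpectrum.basicOpen b).isOpen hbp
  have hv : v ∈ CohB1.support M := hsupp ▸ Set.mem_univ v
  exact hv (subsingleton_stalk_of_germ M v fun s =>
    germ_eq_zero_of_smul_eq_zero j M v b hbv s (Module.mem_annihilator.1 hb s))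

end Groth.Agent.AcyFinLib
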