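import Groth.Agent.AcyFinLib.Basic
import Groth.Agent.BCLib.RpushSec
import Groth.Agent.ZMTFactorLib.Basic
import Groth.Agent.SuppLib.Basic
import Mathlib.AlgebraicGeometry.ZariskisMainTheorem

/-!
A separated quasi-finite morphism carrying an acyclic coherent module of full support with coherent
direct image is finite.
-/

set_option autoImplicit false
set_option backward.isDefEq.respectTransparency false
set_option linter.style.haveILetI false

universe u

open CategoryTheory CategoryTheory.Limits AlgebraicGeometry TopologicalSpace Opposite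

noncomputable section

namespace Groth.Agent.AcyFinLib

/-- The case of an affine target. -/
theorem isFinite_affine {A : CommRingCat.{u}} [IsNoetherianRing A] {V : Scheme.{u}} [IsNoetherian V] (h : V ⟶ Spec A)
    [LocallyQuasiFinite h] [LocallyOfFiniteType h] [IsSeparated h] (M : V.Modules) (hM : Coh.IsCoh M)
    (hsupp : CohB1.support M = Set.univ)
    (hfin : letI := Module.compHom Γ(M, ⊤) (show (A : Type u) →+* Γ(V, ⊤) from Coh.toGlobal (A := A) h)
      Module.Finite A Γ(M, ⊤))
    (hH : ∀ q, 0 < q → Subsingleton (Coh.HH V M q)) : IsFinite h := by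
  haveI : QuasiCompact h := inferInstance
  haveI : QuasiCompact h.toNormalization := by
    haveI : QuasiCompact (h.toNormalization ≫ h.fromNormalization) := by
      rw [h.toNormalization_fromNormalization]; infer_instance
    exact QuasiCompact.of_comp h.toNormalization h.fromNormalization
  haveI : LocallyOfFiniteType (h.toNormalization ≫ h.fromNormalization) := by
    rw [h.toNormalization_fromNormalization]; infer_instance
  obtain ⟨T, q, g, hg, hqg, hopen, -⟩ := ZMTFactorLib.exists_finite_factor h.fromNormalization h.toNormalization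
  haveI := hg
  haveI := hopen
  haveI : IsAffine T := isAffine_of_isAffineHom g
  haveI : IsLocallyNoetherian T := LocallyOfFiniteType.isLocallyNoetherian g
  haveI : IsNoetherianRing Γ(T, ⊤) := IsLocallyNoetherian.component_noetherian ⟨⊤, isAffineOpen_top T⟩
  let j : V ⟶ Spec (CommRingCat.of Γ(T, ⊤)) := (h.toNormalization ≫ q) ≫ T.isoSpec.hom
  let g' : Spec (CommRingCat.of Γ(T, ⊤)) ⟶ Spec A := T.isoSpec.inv ≫ g
  haveI : IsFinite g' := MorphismProperty.comp_mem _ _ _ inferInstance inferInstance
  have hjg : j ≫ g' = h := by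
    simp only [j, g', Category.assoc, Iso.hom_inv_id_assoc]
    rw [hqg, h.toNormalization_fromNormalization]
  haveI : V.IsQuasiAffine := Scheme.IsQuasiAffine.of_isImmersion j
  obtain ⟨φ, hφ⟩ : ∃ φ : A ⟶ CommRingCat.of Γ(T, ⊤), Spec.map φ = g' := ⟨_, Spec.map_preimage g'⟩
  have hfinB : letI := secModule j M; Module.Finite Γ(T, ⊤) Γ(M, ⊤) := by
    letI := Module.compHom Γ(M, ⊤) (show (A : Type u) →+* Γ(V, ⊤) from Coh.toGlobal (A := A) h)
    letI := secModule j M
    letI := φ.hom.toAlgebra
    have htg : ∀ a : A, Coh.toGlobal j (φ a) = Coh.toGlobal (A := A) h a := fun a => by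
      show j.appTop ((Scheme.ΓSpecIso _).inv (φ a)) = h.appTop ((Scheme.ΓSpecIso A).inv a)
      rw [← hjg, ← hφ, Scheme.Hom.comp_appTop, CommRingCat.comp_apply]
      exact congrArg j.appTop (congr(($(Scheme.ΓSpecIso_inv_naturality φ)) a))
    haveI : IsScalarTower A Γ(T, ⊤) Γ(M, ⊤) := ⟨fun a b s => by
      show (show Γ(V, ⊤) from Coh.toGlobal j (φ a * b)) • s =
        (show Γ(V, ⊤) from Coh.toGlobal (A := A) h a) • ((show Γ(V, ⊤) from Coh.toGlobal j b) • s)
      rw [map_mul, htg]
      exact mul_smul _ _ _⟩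
    haveI : Module.Finite A Γ(M, ⊤) := hfin
    exact Module.Finite.of_restrictScalars_finite A Γ(T, ⊤) Γ(M, ⊤)
  have hcl := isClosed_range j M hM hsupp hfinB hH
  haveI : IsClosedImmersion j := IsClosedImmersion.of_isPreimmersion j hcl
  rw [← hjg]
  exact MorphismProperty.comp_mem _ _ _ inferInstance inferInstance

/-- The theorem. -/
theorem isFinite_of_acyclic {V X : Scheme.{u}} [IsNoetherian V] [IsNoetherian X] (f : V ⟶ X)
    [LocallyQuasiFinite f] [LocallyOfFiniteType f] [QuasiCompact f] [IsSeparated f]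
    [HasInjectiveResolutions V.Modules]
    (K : V.Modules) (hK : Coh.IsCoh K) (hsupp : CohB1.support K = Set.univ)
    (hpush : Coh.IsCoh ((Coh.push f).obj K))
    (hvan : ∀ q : ℕ, 0 < q → IsZero ((Coh.Rpush f q).obj K)) : IsFinite f := by
  haveI := hK.1
  refine (IsZariskiLocalAtTarget.iff_of_iSup_eq_top (P := @IsFinite) (fun U : X.affineOpens => U.1)
    (iSup_affineOpens_eq_top X)).2 ?_
  rintro ⟨W, hW⟩
  suffices IsFinite (BCLib.restOver f hW) by
    have : f ∣_ W = BCLib.restOver f hW ≫ hW.isoSpec.inv := by simp [BCLib.restOver]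
    rw [this]
    exact MorphismProperty.comp_mem _ _ _ inferInstance inferInstance
  letI : (f ⁻¹ᵁ W : Scheme.{u}).Over (Spec (CommRingCat.of Γ(X, W))) := ⟨BCLib.restOver f hW⟩
  haveI : IsNoetherianRing Γ(X, W) := IsLocallyNoetherian.component_noetherian ⟨W, hW⟩
  haveI : AlgebraicGeometry.IsNoetherian (f ⁻¹ᵁ W : Scheme.{u}) :=
    { toIsLocallyNoetherian := inferInstance
      toCompactSpace := isCompact_iff_compactSpace.1 (f.isCompact_preimage hW.isCompact) }
  refine isFinite_affine (BCLib.restOver f hW) (BCLib.restMod f K) (PullbackMod.isCoh_pullback _ _ hK) ?_ ?_ ?_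
  · rw [SuppLib.support_pullback _ K hK.2, hsupp, Set.preimage_univ]
  · letI := Module.compHom Γ(BCLib.restMod (W := W) f K, ⊤)
      (show (Γ(X, W) : Type u) →+* Γ((f ⁻¹ᵁ W).toScheme, ⊤) from
        Coh.toGlobal (A := Γ(X, W)) (BCLib.restOver f hW))
    obtain ⟨e⟩ := BCLib.nonempty_rpush_sections f (M := K) 0 hW
    let e0 := BCLib.modIsoSections ((Scheme.Modules.pushforward f).rightDerivedZeroIsoSelf.app K) W
    haveI : Module.Finite Γ(X, W) Γ((Coh.push f).obj K, W) := QCohLib.finite_sections_of_isCoh hpush hW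
    haveI : Module.Finite Γ(X, W) (Coh.HH (f ⁻¹ᵁ W).toScheme (BCLib.restMod f K) 0) :=
      Module.Finite.equiv (e0.symm.trans e)
    let θ : Γ(BCLib.restMod (W := W) f K, ⊤) →ₗ[Γ(X, W)] Coh.HH (f ⁻¹ᵁ W).toScheme (BCLib.restMod f K) 0 :=
      { toFun := RpushLib.h0Γ (BCLib.restMod f K)
        map_add' := map_add _
        map_smul' := fun a s => RpushLib.h0Γ_smul _ _ _ }
    exact Module.Finite.equiv (LinearEquiv.ofBijective θ (RpushLib.h0Γ (BCLib.restMod f K)).bijective).symm
  · intro q hq
    obtain ⟨e⟩ := BCLib.nonempty_rpush_sections f (M := K) q hW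
    haveI : Subsingleton Γ((Coh.Rpush f q).obj K, W) :=
      AddCommGrpCat.subsingleton_of_isZero (((QCohLib.toAbF X) ⋙ sheafToPresheaf _ _ ⋙
        (evaluation _ _).obj (op W)).map_isZero (hvan q hq))
    exact e.symm.toEquiv.subsingleton

end Groth.Agent.AcyFinLib
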